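import Groth.Agent.AlgSt88.LqfChart
import Groth.Agent.SpFP87.LocP
import Groth.Agent.S10542

/-!
The relation of a smooth chart of an algebraic stack, covered by a scheme.
-/

set_option autoImplicit false
set_option maxHeartbeats 1000000
set_option linter.style.haveILetI false
set_option backward.isDefEq.respectTransparency false
set_option backward.isDefEq.respectTransparency.types false
universe u

open CategoryTheory CategoryTheory.Limits AlgebraicGeometry Opposite AlgSt FibCat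
open Groth.Agent.AlgSt88

namespace Groth.Agent.ResG44

variable {S : Scheme.{u}} {𝒳 : AlgSt.Cat S} {U : Over S}

/-- An étale cover by a scheme of the relation of a chart. -/
structure Rel (y : ofSch U ⥤ᵇ 𝒳) where
  V : AlgSp.Space S
  b₁ : V.obj ⟶ (AlgSp.yon S).obj U
  b₂ : V.obj ⟶ (AlgSp.yon S).obj U
  e : ofSp V.obj ⥤ᵇ fp y y
  he : IsEquivOver e
  γ₁ : BasedFunctor.comp e (fpFst y y) ≅ ofSpMap b₁
  γ₂ : BasedFunctor.comp e (fpSnd y y) ≅ ofSpMap b₂
  R : Over S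
  a : (AlgSp.yon S).obj R ⟶ V.obj
  hae : AlgSp.RepWith @Etale a
  has : AlgSp.RepWith @Surjective a
  s : R ⟶ U
  t : R ⟶ U
  hs : a ≫ b₁ = (AlgSp.yon S).map s
  ht : a ≫ b₂ = (AlgSp.yon S).map t

/-- The point of the stack defined by a point of a chart. -/
noncomputable def pt (y : ofSch U ⥤ᵇ 𝒳) (u : ↥U.left) : Points 𝒳 :=
  Points.map y (stPt _ (AlgSp.Points.ofScheme U u))

theorem nonempty_rel (y : ofSch U ⥤ᵇ 𝒳) (V : AlgSp.Space S) (e : ofSp V.obj ⥤ᵇ fp y y) (he : IsEquivOver e) :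
    Nonempty (Rel y) := by
  obtain ⟨R, a, ha, has⟩ := V.property.atlas
  obtain ⟨γ₁⟩ := exists_hom_iso (BasedFunctor.comp e (fpFst y y))
  obtain ⟨γ₂⟩ := exists_hom_iso (BasedFunctor.comp e (fpSnd y y))
  obtain ⟨s, hs⟩ := (AlgSp.yon S).map_surjective (a ≫ homOfBased (BasedFunctor.comp e (fpFst y y)))
  obtain ⟨t, ht⟩ := (AlgSp.yon S).map_surjective (a ≫ homOfBased (BasedFunctor.comp e (fpSnd y y)))
  exact ⟨⟨V, _, _, e, he, γ₁, γ₂, R, a, ha, has, s, t, hs.symm, ht.symm⟩⟩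

theorem exists_rel (h : IsAlgStack Scheme.fppfPrecoverage 𝒳) (y : ofSch U ⥤ᵇ 𝒳) : Nonempty (Rel y) := by
  obtain ⟨V, _, e, he, _⟩ := exists_space_fp_chart (Stk.isFibGrpd_ofPsh _) h.isStack.1 (rep1_ofSch h y) (spY U) y
  exact nonempty_rel y V e he

/-- For a quasi-DM stack the relation is locally quasi-finite over the product. -/
theorem exists_rel_lqf (hqf : IsQuasiDMOver 𝒳) (y : ofSch U ⥤ᵇ 𝒳) :
    ∃ D : Rel y, LocallyQuasiFinite (pullback.lift D.s.left D.t.left ((Over.w D.s).trans (Over.w D.t).symm) :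
      D.R.left ⟶ pullback U.hom U.hom) := by
  haveI := respectsIso_locP (S := S) (@LocallyQuasiFinite ⊓ @LocallyOfFiniteType : MorphismProperty Scheme.{u})
  let r := fpToProd y y
  have h₂ : RepByAlgSpWith (AlgSp.LocP (@LocallyQuasiFinite ⊓ @LocallyOfFiniteType)) r :=
    (repByAlgSpWith_precomp_equiv (f := fpFst (prodMap y y) (diag (toSelf 𝒳))) (isEquivOver_fpToDiag y y)).2
      (repByAlgSpWith_fpFst _ hqf)
  let W := overProd U U
  let z := BasedFunctor.comp (ofOverCat W) (toProdOfSch U U)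
  have hz : IsEquivOver z := isEquivOver_comp (isEquivOver_ofOverCat W) (isEquivOver_toProdOfSch U U)
  obtain ⟨F, e₀, he₀, hq⟩ := h₂ W z
  let c := spMapOfOver (BasedFunctor.comp e₀ (fpFst z r))
  let e : ofSp F.obj ⥤ᵇ fp y y := BasedFunctor.comp e₀ (fpSnd z r)
  have he : IsEquivOver e := isEquivOver_comp he₀
    (isEquivOver_of_iso (F := BasedFunctor.comp (fpSwap z r) (fpFst r z)) (Iso.refl _)
      (isEquivOver_comp isEquivOver_fpSwap (isEquivOver_fpFst r hz)))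
  obtain ⟨γ⟩ : Nonempty (BasedFunctor.comp (BasedFunctor.comp e₀ (fpFst z r)) (ofOverCat W) ≅ ofSpMap c) := by
    obtain ⟨γ⟩ := exists_hom_iso (BasedFunctor.comp (BasedFunctor.comp e₀ (fpFst z r)) (ofOverCat W))
    rw [← spMapOfOver_eq] at γ
    exact ⟨γ⟩
  obtain ⟨c₁⟩ := nonempty_ofSpMap_comp c ((AlgSp.yon S).map (overProdFst U U))
  obtain ⟨c₂⟩ := nonempty_ofSpMap_comp c ((AlgSp.yon S).map (overProdSnd U U))
  have α₁ : BasedFunctor.comp e (fpFst y y) ≅ ofSpMap (c ≫ (AlgSp.yon S).map (overProdFst U U)) :=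
    bRight (bLeft e₀ (fpIso z r)).symm (fpFst (toSelf (ofSch U)) (toSelf (ofSch U))) ≪≫
      bRight γ (ofSpMap ((AlgSp.yon S).map (overProdFst U U))) ≪≫ c₁.symm
  have α₂ : BasedFunctor.comp e (fpSnd y y) ≅ ofSpMap (c ≫ (AlgSp.yon S).map (overProdSnd U U)) :=
    bRight (bLeft e₀ (fpIso z r)).symm (fpSnd (toSelf (ofSch U)) (toSelf (ofSch U))) ≪≫
      bRight γ (ofSpMap ((AlgSp.yon S).map (overProdSnd U U))) ≪≫ c₂.symm
  obtain ⟨R, a, ha, has⟩ := F.property.atlas
  obtain ⟨k, hk⟩ := (AlgSp.yon S).map_surjective (a ≫ c)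
  refine ⟨⟨F, _, _, e, he, α₁, α₂, R, a, ha, has, k ≫ overProdFst U U, k ≫ overProdSnd U U,
    by rw [← Category.assoc, ← hk, ← Functor.map_comp], by rw [← Category.assoc, ← hk, ← Functor.map_comp]⟩, ?_⟩
  have h3 : (@LocallyQuasiFinite ⊓ @LocallyOfFiniteType : MorphismProperty Scheme.{u}) k.left :=
    hq a (𝟙 _) k ha (AlgSp.repWith_id _ W) (by rw [Category.comp_id]; exact hk.symm)
  have e' : pullback.lift (k ≫ overProdFst U U).left (k ≫ overProdSnd U U).left
      ((Over.w (k ≫ overProdFst U U)).trans (Over.w (k ≫ overProdSnd U U)).symm) = k.left := by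
    apply pullback.hom_ext
    · rw [pullback.lift_fst]; rfl
    · rw [pullback.lift_snd]; rfl
  rw [e']
  exact h3.1

variable {y : ofSch U ⥤ᵇ 𝒳} (D : Rel y)

theorem Rel.smooth_t (h : IsAlgStack Scheme.fppfPrecoverage 𝒳) (hy : Sm y) :
    AlgSp.LocP @Smooth D.b₂ ∧ Smooth D.t.left := by
  have h1 : AlgSp.LocP @Smooth D.b₂ :=
    prop_of_rep (Stk.isFibGrpd_ofPsh _) h.isStack.1 (stableBC_locP _) (fppf_local_of_fpqc (S10542.result S)) hy
      (G := spY U) y (e := BasedFunctor.comp D.e (fpSwap y y)) (isEquivOver_comp D.he isEquivOver_fpSwap) D.γ₂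
  exact ⟨h1, h1 D.a (𝟙 _) D.t D.hae (AlgSp.repWith_id _ U) (by rw [Category.comp_id, D.ht])⟩

theorem Rel.pt_eq (r : ↥D.R.left) : pt y (D.s.left r) = pt y (D.t.left r) := by
  let τ := AlgSp.Points.map D.a (AlgSp.Points.ofScheme D.R r)
  have key : ∀ {b : D.V.obj ⟶ (AlgSp.yon S).obj U} {s : D.R ⟶ U}, D.a ≫ b = (AlgSp.yon S).map s →
      Points.map y (Points.map (ofSpMap b) (stPt _ τ)) = pt y (s.left r) := fun {b s} hb => by
    rw [stPt_natural, ← AlgSp.Points.map_comp, hb, map_yon_ofScheme]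
    rfl
  rw [← key D.hs, ← key D.ht, ← points_map_congr D.γ₁, ← points_map_congr D.γ₂, ← points_map_comp,
    ← points_map_comp]
  exact points_map_congr (bLeft D.e (fpIso y y)) _

end Groth.Agent.ResG44
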