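import Mathlib.AlgebraicGeometry.Morphisms.FiniteType
import Mathlib.AlgebraicGeometry.Morphisms.Preimmersion
import Mathlib.AlgebraicGeometry.Morphisms.ClosedImmersion
import Mathlib.AlgebraicGeometry.ResidueField
import Mathlib.AlgebraicGeometry.PullbackCarrier

/-!
When the base change of a residual point along a morphism is of finite type over the source.
-/

set_option autoImplicit false
universe u

open CategoryTheory CategoryTheory.Limits AlgebraicGeometry

set_option linter.style.haveILetI false

namespace Groth.Agent.ResG44

/-- If near each point over `u` the only points mapping into the closure of `u` lie over `u`, then the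
fibre over `u` is locally closed. -/
theorem lft_fst_residueField {P U : Scheme.{u}} (q : P ⟶ U) (u : U)
    (h : ∀ r : P, q r = u → ∃ O : P.Opens, r ∈ O ∧ ∀ w ∈ O, u ⤳ q w → q w = u) :
    LocallyOfFiniteType (pullback.fst q (U.fromSpecResidueField u)) := by
  choose O hrO hO using h
  let O' : P.Opens := ⨆ r : {r : P // q r = u}, O r.1 r.2
  let f := pullback.fst q (U.fromSpecResidueField u)
  have hf : Set.range f = q ⁻¹' {u} := by
    rw [Scheme.Pullback.range_fst, Scheme.range_fromSpecResidueField]
  have hsub : Set.range f ⊆ Set.range O'.ι := by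
    rw [hf, Scheme.Opens.range_ι]
    exact fun r hr => TopologicalSpace.Opens.mem_iSup.2 ⟨⟨r, hr⟩, hrO r hr⟩
  let g := IsOpenImmersion.lift O'.ι f hsub
  have hg : g ≫ O'.ι = f := IsOpenImmersion.lift_fac _ _ _
  haveI : IsPreimmersion f := MorphismProperty.pullback_fst q _ inferInstance
  haveI : IsPreimmersion (g ≫ O'.ι) := hg ▸ ‹IsPreimmersion f›
  haveI : IsPreimmersion g := IsPreimmersion.of_comp g O'.ι
  have hgc : IsClosed (Set.range g) := by
    have : Set.range g = O'.ι ⁻¹' (q ⁻¹' closure {u}) := by
      ext w
      constructor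
      · rintro ⟨v, rfl⟩
        have : f v ∈ q ⁻¹' {u} := hf ▸ ⟨v, rfl⟩
        rw [← hg] at this
        exact subset_closure this
      · intro hw
        obtain ⟨⟨r, hr⟩, hwr⟩ := TopologicalSpace.Opens.mem_iSup.1 w.2
        have : O'.ι w ∈ Set.range f := by
          rw [hf]
          exact hO r hr _ hwr (specializes_iff_mem_closure.2 hw)
        obtain ⟨v, hv⟩ := this
        exact ⟨v, O'.ι.isOpenEmbedding.injective ((Scheme.Hom.comp_apply g O'.ι v).symm.trans (hg ▸ hv))⟩
    rw [this]
    exact (isClosed_closure.preimage q.continuous).preimage O'.ι.continuous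
  haveI : IsClosedImmersion g := IsClosedImmersion.of_isPreimmersion g hgc
  show LocallyOfFiniteType f
  rw [← hg]
  infer_instance

end Groth.Agent.ResG44
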