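import Groth.Agent.ResG44.Chart
import Groth.Agent.ResG44.Crit
import Groth.Agent.Gerb44.FieldImage2
import Groth.Agent.AlgSt88.Cancel
import Groth.Agent.AlgSt88.RepPost
import Groth.Agent.AlgSt88.ValWitness
import Groth.Agent.S10526

/-!
A residual gerbe exists when an orbit in a chart is locally closed.
-/

set_option autoImplicit false
set_option maxHeartbeats 2000000
set_option linter.style.haveILetI false
set_option backward.isDefEq.respectTransparency false
set_option backward.isDefEq.respectTransparency.types false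
universe u

open CategoryTheory CategoryTheory.Limits AlgebraicGeometry Opposite AlgSt FibCat
open Groth.Agent.AlgSt88

namespace Groth.Agent.ResG44

variable {S : Scheme.{u}} {𝒳 : AlgSt.Cat S} {U : Over S} {y : ofSch U ⥤ᵇ 𝒳}

theorem resGerbeExists_of_crit (h : IsAlgStack Scheme.fppfPrecoverage 𝒳) (hy : Sm y) (D : Rel y)
    (u : ↥U.left)
    (hcrit : ∀ r : ↥D.R.left, D.t.left r = u → D.s.left r = u →
      ∃ O : D.R.left.Opens, r ∈ O ∧ ∀ w ∈ O, D.t.left w = u → u ⤳ D.s.left w → D.s.left w = u) :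
    Gerb.ResGerbeExists Scheme.fppfPrecoverage 𝒳 (pt y u) := by
  have hX := h.isStack.1
  have hU : IsFibGrpd (ofSch U).p := Stk.isFibGrpd_ofPsh _
  let str : Spec (U.left.residueField u) ⟶ S := U.left.fromSpecResidueField u ≫ U.hom
  let K : Over S := Over.mk str
  let i : K ⟶ U := Over.homMk (U.left.fromSpecResidueField u) rfl
  have hK : IsFibGrpd (ofSch K).p := Stk.isFibGrpd_ofPsh _
  let z₀ := BasedFunctor.comp (ofSpMap ((AlgSp.yon S).map i)) y
  -- the fibre of the relation over the point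
  obtain ⟨F, c, e₁, he₁, ⟨α₁⟩⟩ := exists_space_fp_chart hU hX (rep1_ofSch h y) (spY K) z₀
  obtain ⟨g, sq, ⟨k⟩⟩ := exists_bc y (V := spY U) y (BasedFunctor.comp D.e (fpSwap y y))
    (isEquivOver_comp D.he isEquivOver_fpSwap) D.b₂ D.γ₂ (ofSpMap ((AlgSp.yon S).map i)) ((AlgSp.yon S).map i)
    (Iso.refl _) z₀ (Iso.refl _) e₁ he₁ c α₁
  let e : ofSp F.obj ⥤ᵇ fp y z₀ := BasedFunctor.comp e₁ (fpSwap z₀ y)
  have he : IsEquivOver e := isEquivOver_comp he₁ isEquivOver_fpSwap
  have α : BasedFunctor.comp e (fpFst y z₀) ≅ ofSpMap (g ≫ D.b₁) :=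
    (bRight k (fpSnd y y)).symm ≪≫ bLeft (ofSpMap g) D.γ₁ ≪≫
      Classical.choice ((nonempty_ofSpMap_comp g D.b₁).map Iso.symm)
  -- the self product of the point
  obtain ⟨F', a', e', he', ⟨α'⟩⟩ := exists_space_fp_chart hK hX (rep1_ofSch h z₀) (spY K) z₀
  obtain ⟨g', sq', ⟨k'⟩⟩ := exists_bc z₀ (V := spY U) y e he (g ≫ D.b₁) α (ofSpMap ((AlgSp.yon S).map i))
    ((AlgSp.yon S).map i) (Iso.refl _) z₀ (Iso.refl _) e' he' a' α'
  have β : BasedFunctor.comp (BasedFunctor.comp e' (fpSwap z₀ z₀)) (fpFst z₀ z₀) ≅ ofSpMap (g' ≫ c) :=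
    (bRight k' (fpSnd y z₀)).symm ≪≫ bLeft (ofSpMap g') α₁ ≪≫
      Classical.choice ((nonempty_ofSpMap_comp g' c).map Iso.symm)
  -- covers by schemes
  have sqP := (IsPullback.of_hasPullback D.t i).map (AlgSp.yon S)
  let P := pullback D.t i
  let aP : (AlgSp.yon S).obj P ⟶ F.obj := sq.lift ((AlgSp.yon S).map (pullback.fst D.t i) ≫ D.a)
    ((AlgSp.yon S).map (pullback.snd D.t i)) (by rw [Category.assoc, D.ht]; exact sqP.w)
  have haP₁ : aP ≫ g = (AlgSp.yon S).map (pullback.fst D.t i) ≫ D.a := sq.lift_fst _ _ _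
  have haP₂ : aP ≫ c = (AlgSp.yon S).map (pullback.snd D.t i) := sq.lift_snd _ _ _
  have sqA : IsPullback ((AlgSp.yon S).map (pullback.fst D.t i)) aP D.a g :=
    IsPullback.of_bot (h₁₁ := (AlgSp.yon S).map (pullback.fst D.t i)) (by rw [haP₂, D.ht]; exact sqP) haP₁.symm sq
  have haPe : AlgSp.RepWith @Etale aP :=
    (AlgSp.repWith_isStableUnderBaseChange (@Etale : MorphismProperty Scheme.{u})).of_isPullback sqA D.hae
  have haPs : AlgSp.RepWith @Surjective aP :=
    (AlgSp.repWith_isStableUnderBaseChange (@Surjective : MorphismProperty Scheme.{u})).of_isPullback sqA D.has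
  let q : P ⟶ U := pullback.fst D.t i ≫ D.s
  have hq : aP ≫ g ≫ D.b₁ = (AlgSp.yon S).map q := by
    rw [reassoc_of% haP₁, D.hs, ← Functor.map_comp]
  have sqQ := (IsPullback.of_hasPullback q i).map (AlgSp.yon S)
  let aQ : (AlgSp.yon S).obj (pullback q i) ⟶ F'.obj := sq'.lift ((AlgSp.yon S).map (pullback.fst q i) ≫ aP)
    ((AlgSp.yon S).map (pullback.snd q i)) (by rw [Category.assoc, hq]; exact sqQ.w)
  have haQ₁ : aQ ≫ g' = (AlgSp.yon S).map (pullback.fst q i) ≫ aP := sq'.lift_fst _ _ _
  have haQ₂ : aQ ≫ a' = (AlgSp.yon S).map (pullback.snd q i) := sq'.lift_snd _ _ _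
  have sqB : IsPullback aQ ((AlgSp.yon S).map (pullback.fst q i)) g' aP :=
    (IsPullback.of_bot (h₁₁ := (AlgSp.yon S).map (pullback.fst q i)) (by rw [haQ₂, hq]; exact sqQ) haQ₁.symm sq').flip
  have hlft : LocallyOfFiniteType (pullback.fst q i).left := by
    have h1 : LocallyOfFiniteType (pullback.fst q.left (U.left.fromSpecResidueField u)) := by
      refine lft_fst_residueField q.left u fun p hp => ?_
      have hpt : D.t.left ((pullback.fst D.t i).left p) = u := by
        have : (pullback.fst D.t i ≫ D.t).left p = (pullback.snd D.t i ≫ i).left p := by rw [pullback.condition]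
        refine this.trans ?_
        change (U.left.fromSpecResidueField u) ((pullback.snd D.t i).left p) = u
        exact Scheme.fromSpecResidueField_apply u _
      obtain ⟨O, hpO, hO⟩ := hcrit _ hpt hp
      refine ⟨(pullback.fst D.t i).left ⁻¹ᵁ O, hpO, fun w hw hs => hO _ hw ?_ hs⟩
      have : (pullback.fst D.t i ≫ D.t).left w = (pullback.snd D.t i ≫ i).left w := by rw [pullback.condition]
      refine this.trans ?_
      exact Scheme.fromSpecResidueField_apply u _
    have sqL := (IsPullback.of_hasPullback q i).map (Over.forget S)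
    have e : (pullback.fst q i).left = sqL.isoPullback.hom ≫ pullback.fst q.left (U.left.fromSpecResidueField u) :=
      sqL.isoPullback_hom_fst.symm
    rw [e]
    exact MorphismProperty.comp_mem _ _ _ inferInstance h1
  have hL := fppf_local_of_fpqc (S10526.result S)
  have hg' : AlgSp.LocP @LocallyOfFiniteType g' :=
    (of_single_cover hL aP (isFppfCover_of_etale_surjective F.property haPe haPs) F.property
      (AlgSp.IsAlgSpace.yon_obj P) F'.property (AlgSp.IsAlgSpace.yon_obj _) sqB).2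
      ((SpFP87.locP_yon_map_iff (P := @LocallyOfFiniteType) _).2 hlft)
  have hc : AlgSp.LocP @LocallyOfFiniteType c := by
    have h1 : AlgSp.LocP @Smooth c := SpFP87.locP_baseChange sq D.V.property (AlgSp.IsAlgSpace.yon_obj U)
      (AlgSp.IsAlgSpace.yon_obj K) (D.smooth_t h hy).1
    intro U' V' a b j ha hb w
    haveI := h1 a b j ha hb w
    infer_instance
  have hd : AlgSp.LocP @LocallyOfFiniteType (g' ≫ c) :=
    SpFP87.locP_comp F'.property F.property (AlgSp.IsAlgSpace.yon_obj K) hg' hc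
  haveI := onSpaces_respectsIso (S := S) hL
  haveI := respectsIso_locP (S := S) (@LocallyOfFiniteType : MorphismProperty Scheme.{u})
  have hl : RepByAlgSpWith (AlgSp.LocP @LocallyOfFiniteType) (fpFst z₀ z₀) :=
    (repByAlgSpWith_precomp_equiv (isEquivOver_comp he' isEquivOver_fpSwap)).1
      (repByAlgSpWith_of_iso β.symm (repByAlgSpWith_ofSpMap (stableBC_locP _) inferInstance (G := spY K) _ hd))
  -- the point as a point of the category over `K`
  let z := BasedFunctor.comp (ofOverCat K) z₀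
  let M : fp z z ⥤ᵇ fp z₀ z₀ :=
    BasedFunctor.comp (fpMapSnd z z₀ (ofOverCat K)) (fpMapFst z₀ z₀ (ofOverCat K))
  have hM : IsEquivOver M := isEquivOver_comp (isEquivOver_fpMapSnd z z₀ (ofOverCat K) (isEquivOver_ofOverCat K))
    (isEquivOver_fpMapFst z₀ z₀ (ofOverCat K) (isEquivOver_ofOverCat K))
  have hlz : RepByAlgSpWith (AlgSp.LocP @LocallyOfFiniteType) (fpFst z z) :=
    (repByAlgSpWith_postcomp_equiv (isEquivOver_ofOverCat K)).1
      (repByAlgSpWith_of_iso (f := BasedFunctor.comp M (fpFst z₀ z₀)) (Iso.refl _)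
        ((repByAlgSpWith_precomp_equiv hM).2 hl))
  refine Gerb44.resGerbeExists_of_point (k := ↥(U.left.residueField u)) (str := str) h z hlz fun t => ?_
  have hid : BasedFunctor.comp (toOverCat K) (ofOverCat K) ≅ BasedFunctor.id (ofSch K) :=
    Classical.choice (isEquivOver_toOverCat_ofOverCat K)
  rw [ofChart_eq]
  refine (points_map_congr (bRight hid z₀) _).trans ?_
  change Points.map (BasedFunctor.comp (ofSpMap ((AlgSp.yon S).map i)) y) _ = pt y u
  rw [points_map_comp, stPt_natural, map_yon_ofScheme]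
  change pt y ((U.left.fromSpecResidueField u) t) = _
  rw [Scheme.fromSpecResidueField_apply]

end Groth.Agent.ResG44
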