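import Groth.Agent.AlgSt88.SliceLqf

/-!
A point of a scheme over a field which is isolated over the closure of its image.
-/

set_option autoImplicit false
set_option maxHeartbeats 1000000
set_option linter.style.haveILetI false
set_option backward.isDefEq.respectTransparency false
set_option backward.isDefEq.respectTransparency.types false
universe u

open CategoryTheory CategoryTheory.Limits AlgebraicGeometry

namespace Groth.Agent.ResG44

variable {K : Type u} [Field K] {P U B : Scheme.{u}} (p : P ⟶ Spec (CommRingCat.of K)) [LocallyOfFiniteType p]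
  (q : P ⟶ U) (ξ : Spec (CommRingCat.of K) ⟶ B) (π : U ⟶ B) (w : p ≫ ξ = q ≫ π)

/-- If `P ⟶ Spec K ×_B U` is locally quasi-finite, some point of `P` is isolated among the points mapping
to the closure of its image in `U`. -/
theorem exists_isolated (hqf : LocallyQuasiFinite (pullback.lift p q w)) [Nonempty P] :
    ∃ r : P, ∃ O : P.Opens, r ∈ O ∧ ∀ v ∈ O, q r ⤳ q v → v = r := by
  obtain ⟨r₀⟩ := ‹Nonempty P›
  obtain ⟨_, ⟨W, hW, rfl⟩, hr₀, -⟩ :=
    U.isBasis_affineOpens.exists_subset_of_mem_open (Set.mem_univ (q r₀)) isOpen_univ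
  obtain ⟨_, ⟨V, hV, rfl⟩, hrV, hVW⟩ :=
    P.isBasis_affineOpens.exists_subset_of_mem_open (show r₀ ∈ q ⁻¹ᵁ W from hr₀) (q ⁻¹ᵁ W).isOpen
  haveI : IsLocallyNoetherian P := LocallyOfFiniteType.isLocallyNoetherian p
  haveI : IsNoetherianRing Γ(P, V) := IsLocallyNoetherian.component_noetherian ⟨V, hV⟩
  let φ := q.appLE W V hVW
  have hφ : Spec.map φ ≫ hW.fromSpec = hV.fromSpec ≫ q := IsAffineOpen.SpecMap_appLE_fromSpec q hW hV hVW
  obtain ⟨pv, -⟩ : r₀ ∈ Set.range hV.fromSpec := by rw [hV.range_fromSpec]; exact hrV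
  let 𝒮 : Set (Ideal Γ(P, V)) := {I | ∃ J : Ideal Γ(U, W), J.map φ.hom = I ∧ I ≠ ⊤}
  haveI : Nontrivial Γ(P, V) := PrimeSpectrum.nonempty_iff_nontrivial.1 ⟨pv⟩
  obtain ⟨I, ⟨J, hJ, hI⟩, hmax⟩ := wellFounded_gt.has_min 𝒮 ⟨⊥, ⊥, Ideal.map_bot, bot_ne_top⟩
  have hbI : ∀ b : Γ(U, W), φ.hom b ∈ I ∨ I ⊔ Ideal.span {φ.hom b} = ⊤ := by
    intro b
    by_contra! hb
    refine hmax (I ⊔ Ideal.span {φ.hom b}) ⟨J ⊔ Ideal.span {b}, ?_, hb.2⟩ (lt_of_le_of_ne le_sup_left fun h => hb.1 ?_)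
    · rw [Ideal.map_sup, hJ, Ideal.map_span, Set.image_singleton]
    · rw [h]
      exact Ideal.mem_sup_right (Ideal.mem_span_singleton_self _)
  let p₀ : Ideal Γ(U, W) := I.comap φ.hom
  haveI hp₀ : p₀.IsPrime := by
    refine ⟨fun h => hI ((Ideal.eq_top_iff_one I).2 ?_), fun {a b} hab => ?_⟩
    · have := (Ideal.eq_top_iff_one _).1 h
      rwa [Ideal.mem_comap, map_one] at this
    · rw [Ideal.mem_comap, map_mul] at hab
      rcases hbI a with ha | ha
      · exact Or.inl ha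
      · refine Or.inr ?_
        obtain ⟨i, hi, c, hc, hic⟩ := Submodule.mem_sup.1 ((Ideal.eq_top_iff_one _).1 ha)
        obtain ⟨d, rfl⟩ := Ideal.mem_span_singleton'.1 hc
        rw [Ideal.mem_comap, ← one_mul (φ.hom b), ← hic, add_mul, mul_assoc]
        exact I.add_mem (I.mul_mem_right _ hi) (I.mul_mem_left _ hab)
  let A := CommRingCat.of (Γ(P, V) ⧸ I)
  let mkI : Γ(P, V) ⟶ A := CommRingCat.ofHom (Ideal.Quotient.mk I)
  haveI : IsClosedImmersion (Spec.map mkI) :=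
    IsClosedImmersion.spec_of_surjective _ Ideal.Quotient.mk_surjective
  let h₀ : Spec A ⟶ P := Spec.map mkI ≫ hV.fromSpec
  let L : Type u := p₀.ResidueField
  let l : p₀.ResidueField →+* (A : Type u) := Ideal.ResidueField.lift p₀ ((Ideal.Quotient.mk I).comp φ.hom)
    (fun b hb => Ideal.Quotient.eq_zero_iff_mem.2 hb)
    (fun b hb => by
      obtain ⟨i, hi, c, hc, hic⟩ := Submodule.mem_sup.1 ((Ideal.eq_top_iff_one _).1 ((hbI b).resolve_left hb))
      obtain ⟨d, rfl⟩ := Ideal.mem_span_singleton'.1 hc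
      refine IsUnit.of_mul_eq_one (Ideal.Quotient.mk I d) ?_
      change Ideal.Quotient.mk I (φ.hom b) * Ideal.Quotient.mk I d = 1
      rw [← map_mul, ← map_one (Ideal.Quotient.mk I), ← hic, Ideal.Quotient.eq, mul_comm]
      rw [show d * φ.hom b - (i + d * φ.hom b) = -i by ring]
      exact I.neg_mem hi)
  let b₁ : Spec A ⟶ Spec (CommRingCat.of L) := Spec.map (CommRingCat.ofHom l)
  let j : Spec (CommRingCat.of L) ⟶ U :=
    Spec.map (CommRingCat.ofHom (algebraMap (Γ(U, W) : Type u) p₀.ResidueField)) ≫ hW.fromSpec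
  have hbj : b₁ ≫ j = h₀ ≫ q := by
    simp only [b₁, j, h₀, Category.assoc]
    rw [← hφ, ← Spec.map_comp_assoc, ← Spec.map_comp_assoc]
    congr 2
    ext b
    change l (algebraMap _ p₀.ResidueField b) = _
    simp only [l, Ideal.ResidueField.lift_algebraMap]
    rfl
  let i : pullback ξ (j ≫ π) ⟶ pullback ξ π :=
    pullback.lift (pullback.fst _ _) (pullback.snd _ _ ≫ j) (by rw [Category.assoc]; exact pullback.condition)
  have wh : (h₀ ≫ p) ≫ ξ = b₁ ≫ j ≫ π := by rw [reassoc_of% hbj, Category.assoc, w]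
  let h := pullback.lift (h₀ ≫ p) b₁ wh
  have hhi : h ≫ i = h₀ ≫ pullback.lift p q w := by
    apply pullback.hom_ext
    · simp [h, i]
    · simp [h, i, hbj]
  haveI := hqf
  haveI : LocallyQuasiFinite (h ≫ i) := by rw [hhi]; infer_instance
  haveI : LocallyQuasiFinite h := LocallyQuasiFinite.of_comp h i
  haveI : LocallyOfFiniteType (h₀ ≫ p) := inferInstance
  have hcl : ∀ z : ↥(Spec A), IsClosed ({z} : Set ↥(Spec A)) := fun z =>
    AlgSt88.SliceLqf.isClosed_singleton_of_lqf (h₀ ≫ p) b₁ h (pullback.fst _ _) (pullback.snd _ _)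
      (pullback.lift_fst _ _ _) (pullback.lift_snd _ _ _) (fun T f g ef eg => pullback.hom_ext ef eg) z
  haveI : IsNoetherianRing (A : Type u) := inferInstanceAs (IsNoetherianRing (Γ(P, V) ⧸ I))
  haveI : Nontrivial (A : Type u) := Ideal.Quotient.nontrivial_iff.2 hI
  haveI : Finite ↥(Spec A) := by
    refine (Set.finite_univ_iff.1 ?_ : Finite (PrimeSpectrum A))
    refine Set.Finite.of_finite_image (f := PrimeSpectrum.asIdeal) ?_ (fun a _ b _ => PrimeSpectrum.ext)
    refine ((minimalPrimes.finite_of_isNoetherianRing (A : Type u))).subset ?_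
    rintro _ ⟨z, -, rfl⟩
    obtain ⟨m, hm, hmz⟩ := Ideal.exists_minimalPrimes_le (bot_le : ⊥ ≤ z.asIdeal)
    have : (⟨m, hm.1.1⟩ : PrimeSpectrum A) ⤳ z := (PrimeSpectrum.le_iff_specializes _ _).1 hmz
    have e := (hcl ⟨m, hm.1.1⟩).closure_eq
    have : z ∈ ({⟨m, hm.1.1⟩} : Set (PrimeSpectrum A)) := e ▸ specializes_iff_mem_closure.1 this
    rw [Set.mem_singleton_iff] at this
    rw [this]
    exact hm
  obtain ⟨z₁⟩ : Nonempty ↥(Spec A) := inferInstanceAs (Nonempty (PrimeSpectrum A))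
  have hclosed : IsClosed (Set.range (Spec.map mkI)) := (Spec.map mkI).isClosedEmbedding.isClosed_range
  let C : Set ↥(Spec Γ(P, V)) := Spec.map mkI '' {z₁}ᶜ
  have hC : IsClosed C := (Spec.map mkI).isClosedEmbedding.isClosedMap _ (by
    rw [← Set.biUnion_of_singleton ({z₁}ᶜ : Set ↥(Spec A))]
    exact Set.Finite.isClosed_biUnion (Set.toFinite _) fun z _ => hcl z)
  have himg : ∀ z : ↥(Spec A), q (h₀ z) = j (b₁ z) := fun z => by
    rw [← Scheme.Hom.comp_apply, ← hbj, Scheme.Hom.comp_apply]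
  refine ⟨h₀ z₁, ⟨hV.fromSpec '' Cᶜ, hV.fromSpec.isOpenEmbedding.isOpenMap _ hC.isOpen_compl⟩, ?_, ?_⟩
  · refine ⟨Spec.map mkI z₁, ?_, (Scheme.Hom.comp_apply _ _ _).symm⟩
    rintro ⟨z, hz, e⟩
    exact hz ((Spec.map mkI).isClosedEmbedding.injective e)
  · rintro _ ⟨v, hv, rfl⟩ hsp
    have e₁ : hW.fromSpec (Spec.map φ (Spec.map mkI z₁)) = q (h₀ z₁) := by
      rw [← Scheme.Hom.comp_apply (Spec.map φ), hφ, Scheme.Hom.comp_apply, ← Scheme.Hom.comp_apply (Spec.map mkI)]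
    have e₂ : hW.fromSpec (Spec.map φ v) = q (hV.fromSpec v) := by
      rw [← Scheme.Hom.comp_apply, hφ, Scheme.Hom.comp_apply]
    rw [← e₁, ← e₂] at hsp
    have hle : (Spec.map φ (Spec.map mkI z₁)).asIdeal ≤ (Spec.map φ v).asIdeal :=
      (PrimeSpectrum.le_iff_specializes _ _).2 (hW.fromSpec.isOpenEmbedding.isInducing.specializes_iff.1 hsp)
    have hIv : I ≤ v.asIdeal := by
      rw [← hJ, Ideal.map_le_iff_le_comap]
      refine fun b hb => hle ?_
      have : φ.hom b ∈ I := hJ ▸ Ideal.mem_map_of_mem _ hb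
      change Ideal.Quotient.mk I (φ.hom b) ∈ z₁.asIdeal
      rw [Ideal.Quotient.eq_zero_iff_mem.2 this]
      exact z₁.asIdeal.zero_mem
    obtain ⟨z, hz⟩ : v ∈ Set.range (Spec.map mkI) := by
      refine (range_comap_of_surjective _ mkI.hom Ideal.Quotient.mk_surjective).ge ?_
      rw [PrimeSpectrum.mem_zeroLocus, SetLike.coe_subset_coe]
      change RingHom.ker (Ideal.Quotient.mk _) ≤ _
      rwa [Ideal.mk_ker]
    by_cases hz₁ : z = z₁
    · subst hz₁
      rw [← hz, ← Scheme.Hom.comp_apply]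
    · exact absurd ⟨z, hz₁, hz⟩ hv

end Groth.Agent.ResG44
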