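import Groth.Agent.ResG44.Criterion
import Groth.Agent.AlgSt88.PointsBasic

/-!
Residual gerbes of locally Noetherian algebraic stacks.
-/

set_option autoImplicit false
set_option maxHeartbeats 1000000
set_option linter.style.haveILetI false
set_option backward.isDefEq.respectTransparency false
set_option backward.isDefEq.respectTransparency.types false
universe u

open CategoryTheory CategoryTheory.Limits AlgebraicGeometry Opposite AlgSt FibCat
open Groth.Agent.AlgSt88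

namespace Groth.Agent.ResG44

variable {S : Scheme.{u}} {𝒳 : AlgSt.Cat S}

theorem exists_atlas_pt (h : IsAlgStack Scheme.fppfPrecoverage 𝒳) (x : Points 𝒳) :
    ∃ (U : Over S) (y : ofSch U ⥤ᵇ 𝒳) (u : ↥U.left), Sm y ∧ pt y u = x := by
  obtain ⟨U, y, hy, hy'⟩ := exists_space_atlas h
  obtain ⟨v, rfl⟩ := isSurjective_of_sj h.isStack.1 hy' x
  obtain ⟨τ, rfl⟩ := stPt_bijective.2 v
  obtain ⟨u, rfl⟩ := (AlgSp.Points.schemeHomeo U).surjective τ
  exact ⟨U, y, u, hy, rfl⟩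

theorem resGerbeExists_of_noeth (h : IsAlgStack Scheme.fppfPrecoverage 𝒳)
    (hN : SmoothLocally (fun T => IsLocallyNoetherian T) 𝒳) (x : Points 𝒳) :
    Gerb.ResGerbeExists Scheme.fppfPrecoverage 𝒳 x := by
  obtain ⟨U, y, u₀, hy, hu₀⟩ := exists_atlas_pt h x
  obtain ⟨D⟩ := exists_rel h y
  haveI : IsLocallyNoetherian U.left := hN U (BasedFunctor.comp (ofOverCat U) y)
    ((repByAlgSpWith_precomp_equiv (isEquivOver_ofOverCat U)).2 hy)
  obtain ⟨_, ⟨V, hV, rfl⟩, hu₀V, -⟩ :=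
    U.left.isBasis_affineOpens.exists_subset_of_mem_open (Set.mem_univ u₀) isOpen_univ
  haveI : IsNoetherianRing Γ(U.left, V) := IsLocallyNoetherian.component_noetherian ⟨V, hV⟩
  let 𝒯 : Set (Ideal Γ(U.left, V)) := {I | ∃ p : ↥(Spec Γ(U.left, V)), p.asIdeal = I ∧ pt y (hV.fromSpec p) = x}
  have hne : 𝒯.Nonempty := by
    obtain ⟨p, hp⟩ : u₀ ∈ Set.range hV.fromSpec := by rw [hV.range_fromSpec]; exact hu₀V
    exact ⟨_, p, rfl, by rw [hp, hu₀]⟩
  obtain ⟨_, ⟨p, rfl, hp⟩, hmax⟩ := wellFounded_gt.has_min 𝒯 hne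
  rw [← hp]
  refine resGerbeExists_of_crit h hy D _ fun r _ hr =>
    ⟨D.s.left ⁻¹ᵁ V, ?_, fun w hw ht hs => ?_⟩
  · change D.s.left r ∈ V
    rw [hr]
    exact hV.range_fromSpec.subset ⟨p, rfl⟩
  · obtain ⟨p', hp'⟩ : D.s.left w ∈ Set.range hV.fromSpec := by rw [hV.range_fromSpec]; exact hw
    have hle : p.asIdeal ≤ p'.asIdeal := (PrimeSpectrum.le_iff_specializes _ _).2
      (hV.fromSpec.isOpenEmbedding.isInducing.specializes_iff.1 (hp'.symm ▸ hs))
    have hmem : p'.asIdeal ∈ 𝒯 := ⟨p', rfl, by rw [hp', D.pt_eq w, ht, hp]⟩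
    have : p.asIdeal = p'.asIdeal := eq_of_le_of_not_lt hle (hmax _ hmem)
    rw [← hp', PrimeSpectrum.ext this.symm]

end Groth.Agent.ResG44
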