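import Groth.Agent.AlgSt88.PLocusMain
import Groth.Agent.SpPts86.HasAtMorBC
import Groth.Agent.SpPts86.RelDim

/-!
The relative dimension zero locus of a chart base change is saturated.
-/

set_option autoImplicit false
set_option maxHeartbeats 1000000
set_option linter.style.haveILetI false
set_option backward.isDefEq.respectTransparency false
set_option backward.isDefEq.respectTransparency.types false
universe u

open CategoryTheory CategoryTheory.Limits AlgebraicGeometry Opposite AlgSt FibCat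
open Groth.Agent.AlgSt88

namespace Groth.Agent.ResG44

variable {S : Scheme.{u}} {𝒳 𝒴 : AlgSt.Cat S}

/-- The relative dimension is at most zero. -/
abbrev QfAt {X Y : AlgSp.Sp S} (f : X ⟶ Y) (x : AlgSp.Points X) : Prop :=
  AlgSp.HasAtMor (fun _ _ h u => FlatMor.fibreDimAt h u ≤ ((0 : ℕ) : WithBot ℕ∞)) f x

theorem qfAt_saturated (h𝒴 : IsAlgStack Scheme.fppfPrecoverage 𝒴) (hX : IsFibGrpd 𝒳.p) (f : 𝒳 ⥤ᵇ 𝒴)
    (hf : RepByAlgSp1 f) {V : Over S} (y : ofSch V ⥤ᵇ 𝒴)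
    {F : AlgSp.Space S} (a : F.obj ⟶ (AlgSp.yon S).obj V) (ha : AlgSp.LocP @LocallyOfFiniteType a)
    (e : ofSp F.obj ⥤ᵇ fp y f) (he : IsEquivOver e) (α : BasedFunctor.comp e (fpFst y f) ≅ ofSpMap a)
    (φ₁ φ₂ : AlgSp.Points F.obj)
    (hq : Points.map (BasedFunctor.comp e (fpSnd y f)) (stPt _ φ₁) =
      Points.map (BasedFunctor.comp e (fpSnd y f)) (stPt _ φ₂))
    (h₁ : QfAt a φ₁) : QfAt a φ₂ := by
  have hY := h𝒴.isStack.1
  have hV : IsFibGrpd (ofSch V).p := Stk.isFibGrpd_ofPsh _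
  obtain ⟨V₂, b₁, e₂, he₂, ⟨γ₁⟩⟩ := exists_space_fp_chart hV hY (rep1_ofSch h𝒴 y) (spY V) y
  obtain ⟨γ₂⟩ := exists_hom_iso (BasedFunctor.comp e₂ (fpSnd y y))
  let b₂ := homOfBased (BasedFunctor.comp e₂ (fpSnd y y))
  let Φ₁ := BasedFunctor.comp e₂ (fpFst y y)
  let Φ₂ := BasedFunctor.comp e₂ (fpSnd y y)
  let β₂ : BasedFunctor.comp Φ₁ y ≅ BasedFunctor.comp Φ₂ y := bLeft e₂ (fpIso y y)
  obtain ⟨F', a', e', he', ⟨α'⟩⟩ := exists_space_fp_chart hX hY hf V₂ (BasedFunctor.comp Φ₁ y)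
  obtain ⟨g₁, sq₁, ⟨c₁⟩⟩ := exists_bc f (V := spY V) y e he a α Φ₁ b₁ γ₁ (BasedFunctor.comp Φ₁ y)
    (Iso.refl _) e' he' a' α'
  obtain ⟨g₂, sq₂, ⟨c₂⟩⟩ := exists_bc f (V := spY V) y e he a α Φ₂ b₂ γ₂ (BasedFunctor.comp Φ₁ y)
    β₂ e' he' a' α'
  obtain ⟨z, hz₁, hz₂⟩ := exists_pair_point hX hV hY f y (Points.map e (stPt _ φ₁)) (Points.map e (stPt _ φ₂))
    (by rw [← points_map_comp, ← points_map_comp]; exact hq)
  obtain ⟨z', rfl⟩ := (points_map_bijective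
    (isEquivOver_fpMapFst (BasedFunctor.comp (fpFst y y) y) f e₂ he₂)).2 z
  obtain ⟨v, rfl⟩ := (points_map_bijective he').2 z'
  obtain ⟨r, rfl⟩ := stPt_bijective.2 v
  let M := fpMapFst (BasedFunctor.comp (fpFst y y) y) f e₂
  have σ₁ : BasedFunctor.comp (fpCongr (Iso.refl (BasedFunctor.comp Φ₁ y)) (Iso.refl f)) (fpMapFst y f Φ₁) ≅
      BasedFunctor.comp M (fpMapFst y f (fpFst y y)) :=
    fpNatIso (Φ := BasedFunctor.comp (fpCongr (Iso.refl (BasedFunctor.comp Φ₁ y)) (Iso.refl f)) (fpMapFst y f Φ₁))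
      (Ψ := BasedFunctor.comp M (fpMapFst y f (fpFst y y))) (Iso.refl _) (Iso.refl _) (fun x => by
        change y.map (𝟙 _) ≫ x.obj.iso.hom = (𝟙 _ ≫ x.obj.iso.hom ≫ 𝟙 _) ≫ f.map (𝟙 _)
        rw [map_id', map_id']
        simp)
  have σ₂ : BasedFunctor.comp (fpCongr β₂ (Iso.refl f)) (fpMapFst y f Φ₂) ≅
      BasedFunctor.comp (BasedFunctor.comp M (fpCongr (fpIso y y) (Iso.refl f))) (fpMapFst y f (fpSnd y y)) :=
    fpNatIso (Φ := BasedFunctor.comp (fpCongr β₂ (Iso.refl f)) (fpMapFst y f Φ₂))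
      (Ψ := BasedFunctor.comp (BasedFunctor.comp M (fpCongr (fpIso y y) (Iso.refl f))) (fpMapFst y f (fpSnd y y)))
      (Iso.refl _) (Iso.refl _) (fun x => by
        change y.map (𝟙 _) ≫ ((e₂.obj x.obj.fst).obj.iso.inv ≫ x.obj.iso.hom ≫ 𝟙 _) =
          ((e₂.obj x.obj.fst).obj.iso.inv ≫ x.obj.iso.hom ≫ 𝟙 _) ≫ f.map (𝟙 _)
        rw [map_id', map_id']
        simp)
  have e₁' : AlgSp.Points.map g₁ r = φ₁ := stPt_bijective.1 ((points_map_bijective he).1 (by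
    rw [← stPt_natural g₁, ← points_map_comp, points_map_congr (c₁ ≪≫ bLeft e' σ₁), points_map_comp,
      points_map_comp]
    exact hz₁))
  have e₂' : AlgSp.Points.map g₂ r = φ₂ := stPt_bijective.1 ((points_map_bijective he).1 (by
    rw [← stPt_natural g₂, ← points_map_comp, points_map_congr (c₂ ≪≫ bLeft e' σ₂), points_map_comp,
      points_map_comp, points_map_comp]
    exact hz₂))
  have hV₂ := V₂.property
  have hVS := AlgSp.IsAlgSpace.yon_obj (S := S) V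
  have k₁ := SpPts86.hasAtMor_fibreDim_baseChange (· ≤ ((0 : ℕ) : WithBot ℕ∞)) sq₁ F.property hVS hV₂ ha r
  have k₂ := SpPts86.hasAtMor_fibreDim_baseChange (· ≤ ((0 : ℕ) : WithBot ℕ∞)) sq₂ F.property hVS hV₂ ha r
  rw [e₁'] at k₁
  rw [e₂'] at k₂
  exact k₂.1 (k₁.2 h₁)

end Groth.Agent.ResG44
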