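import Groth.Agent.ResG44.Isolated
import Groth.Agent.SpPts86.RelDim
import Groth.Agent.FibDim94.BaseChange

/-!
The reduced closure of a point cuts an orbit in an isolated point.
-/

set_option autoImplicit false
set_option maxHeartbeats 1000000
set_option linter.style.haveILetI false
set_option backward.isDefEq.respectTransparency false
set_option backward.isDefEq.respectTransparency.types false
universe u

open CategoryTheory CategoryTheory.Limits AlgebraicGeometry

namespace Groth.Agent.ResG44

theorem exists_slice_point {R U B : Scheme.{u}} (s t : R ⟶ U) [LocallyOfFiniteType t] (π : U ⟶ B)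
    (w : t ≫ π = s ≫ π) (hqf : LocallyQuasiFinite (pullback.lift t s w)) (u₀ : U) (r₀ : R) (hr₀ : t r₀ = u₀) :
    ∃ (u : U) (r : R) (Z : Scheme.{u}) (g : Z ⟶ U) (_ : IsClosedImmersion g) (φ : ↥(pullback s g)),
      s r = u ∧ t r = u₀ ∧ pullback.fst s g φ = r ∧ Set.range g = closure {u} ∧
      FlatMor.fibreDimAt (pullback.fst s g ≫ t) φ ≤ ((0 : ℕ) : WithBot ℕ∞) := by
  let i₀ := U.fromSpecResidueField u₀
  let p := pullback.fst i₀ t
  let q := pullback.snd i₀ t ≫ s
  have wq : p ≫ i₀ ≫ π = q ≫ π := by
    simp only [p, q, Category.assoc]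
    rw [reassoc_of% pullback.condition, w]
  have hlq : LocallyQuasiFinite (pullback.lift p q wq) :=
    AlgSt88.SliceLqf.lqf_lift_left t s π w i₀ hqf wq
  haveI : LocallyOfFiniteType p := MorphismProperty.pullback_fst i₀ t inferInstance
  obtain ⟨p₀, -⟩ := Scheme.Pullback.exists_preimage_pullback (f := i₀) (g := t) (default : ↥(Spec (U.residueField u₀)))
    r₀ (by rw [hr₀]; exact Scheme.fromSpecResidueField_apply u₀ _)
  haveI : Nonempty ↥(pullback i₀ t) := ⟨p₀⟩
  obtain ⟨a, O, haO, hO⟩ := exists_isolated p q (i₀ ≫ π) π wq hlq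
  let u := q a
  let I := Scheme.IdealSheafData.vanishingIdeal (X := U) ⟨closure {u}, isClosed_closure⟩
  let g := I.subschemeι
  have hg : Set.range g = closure {u} := by
    rw [Scheme.IdealSheafData.range_subschemeι]
    exact Scheme.IdealSheafData.coe_support_vanishingIdeal _
  obtain ⟨ζ, hζ⟩ : u ∈ Set.range g := by rw [hg]; exact subset_closure rfl
  let r := pullback.snd i₀ t a
  have hr : t r = u₀ := by
    rw [← Scheme.Hom.comp_apply, ← pullback.condition, Scheme.Hom.comp_apply]
    exact Scheme.fromSpecResidueField_apply u₀ _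
  -- the slice of the orbit
  let G := pullback (pullback.fst s g ≫ t) i₀
  let h := pullback.snd (pullback.fst s g ≫ t) i₀
  let gP : G ⟶ pullback i₀ t := pullback.lift h (pullback.fst _ _ ≫ pullback.fst s g)
    (by rw [Category.assoc]; exact pullback.condition.symm)
  let m : G ⟶ pullback q g := pullback.lift gP (pullback.fst _ _ ≫ pullback.snd s g) (by
    simp only [q, gP, pullback.lift_snd_assoc, Category.assoc]
    rw [pullback.condition])
  haveI : IsIso m := by
    let n : pullback q g ⟶ G := pullback.lift
      (pullback.lift (pullback.fst q g ≫ pullback.snd i₀ t) (pullback.snd q g)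
        (by rw [Category.assoc]; exact pullback.condition))
      (pullback.fst q g ≫ p) (by
        rw [pullback.lift_fst_assoc]
        simp only [p, Category.assoc]
        rw [pullback.condition])
    refine ⟨n, ?_, ?_⟩
    · apply pullback.hom_ext
      · apply pullback.hom_ext <;> simp [m, n, gP]
      · simp [m, n, gP, p, h]
    · apply pullback.hom_ext
      · apply pullback.hom_ext <;> simp [m, n, gP, p, h]
      · simp [m, n]
  haveI : IsClosedImmersion (pullback.fst q g) := MorphismProperty.pullback_fst q g inferInstance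
  have hgP : m ≫ pullback.fst q g = gP := pullback.lift_fst _ _ _
  have hinj : Function.Injective gP := by
    haveI : IsClosedImmersion gP := hgP ▸ inferInstance
    exact gP.isClosedEmbedding.injective
  obtain ⟨b, hb, -⟩ := Scheme.Pullback.exists_preimage_pullback (f := q) (g := g) a ζ hζ.symm
  let z : G := inv m b
  have hz : gP z = a := by
    rw [← hgP, Scheme.Hom.comp_apply]
    rw [← hb]
    congr 1
    change (inv m ≫ m) b = b
    rw [IsIso.inv_hom_id]
    rfl
  clear_value z
  let φ := pullback.fst (pullback.fst s g ≫ t) i₀ z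
  have hφ : pullback.fst s g φ = r := by
    change pullback.fst s g (pullback.fst _ i₀ z) = pullback.snd i₀ t a
    rw [← hz]
    change (pullback.fst (pullback.fst s g ≫ t) i₀ ≫ pullback.fst s g) z = (gP ≫ pullback.snd i₀ t) z
    rw [pullback.lift_snd]
  refine ⟨u, r, I.subscheme, g, inferInstance, φ, rfl, hr, hφ, hg, ?_⟩
  have sq := IsPullback.of_hasPullback (pullback.fst s g ≫ t) i₀
  haveI : LocallyOfFiniteType h :=
    MorphismProperty.pullback_snd (pullback.fst s g ≫ t) i₀ inferInstance
  rw [← FibDim94.fibreDimAt_eq_of_isPullback sq z, ← SpPts86.nearPt_lqf_iff]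
  refine ⟨gP ⁻¹ᵁ O, show gP z ∈ O from hz.symm ▸ haO, ?_, inferInstance⟩
  refine LocallyQuasiFinite.of_finite_preimage_singleton _ fun v => Set.Finite.subset (Set.finite_singleton
    (⟨z, show gP z ∈ O from hz.symm ▸ haO⟩ : ↥(gP ⁻¹ᵁ O))) ?_
  rintro ⟨x, hx⟩ -
  refine Subtype.ext (hinj ((hO _ hx ?_).trans hz.symm))
  rw [specializes_iff_mem_closure, ← hg]
  refine ⟨pullback.snd q g (m x), ?_⟩
  rw [← hgP, ← Scheme.Hom.comp_apply, ← Scheme.Hom.comp_apply, ← Scheme.Hom.comp_apply]
  rw [Category.assoc, pullback.condition]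

end Groth.Agent.ResG44
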