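import Groth.Agent.ResG44.Noeth
import Groth.Agent.ResG44.Slice
import Groth.Agent.ResG44.Saturated
import Groth.Agent.SpPts86.LocPNear

/-!
Residual gerbes of quasi-DM algebraic stacks.
-/

set_option autoImplicit false
set_option maxHeartbeats 2000000
set_option linter.style.haveILetI false
set_option backward.isDefEq.respectTransparency false
set_option backward.isDefEq.respectTransparency.types false
universe u

open CategoryTheory CategoryTheory.Limits AlgebraicGeometry Opposite AlgSt FibCat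
open Groth.Agent.AlgSt88

namespace Groth.Agent.ResG44

variable {S : Scheme.{u}} {𝒳 : AlgSt.Cat S} {U : Over S} {y : ofSch U ⥤ᵇ 𝒳}

theorem Rel.exists_over (h : IsAlgStack Scheme.fppfPrecoverage 𝒳) (D : Rel y) (u : ↥U.left) :
    ∃ r : ↥D.R.left, D.t.left r = u := by
  have hU : IsFibGrpd (ofSch U).p := Stk.isFibGrpd_ofPsh _
  obtain ⟨w, -, hw⟩ := exists_points_fp h.isStack.1 hU hU y y (stPt _ (AlgSp.Points.ofScheme U u))
    (stPt _ (AlgSp.Points.ofScheme U u)) rfl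
  obtain ⟨w', rfl⟩ := (points_map_bijective D.he).2 w
  obtain ⟨τ, rfl⟩ := stPt_bijective.2 w'
  obtain ⟨r, rfl⟩ := SpPts86.surjective_ofPt D.has τ
  refine ⟨r, ?_⟩
  rw [← points_map_comp, points_map_congr D.γ₂, stPt_natural, AlgSp.Points.map_ofPt, D.ht,
    SpPts86.ofPt_yon_map] at hw
  exact (AlgSp.Points.schemeHomeo U).injective (stPt_bijective.1 hw)

theorem qfAt_of_diagram {R V : Over S} {F : AlgSp.Sp S} {f : F ⟶ (AlgSp.yon S).obj V}
    {a : (AlgSp.yon S).obj R ⟶ F} (ha : AlgSp.RepWith @Etale a) {k : R ⟶ V} (w : a ≫ f = (AlgSp.yon S).map k)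
    (φ : ↥R.left) (h : FlatMor.fibreDimAt k.left φ ≤ ((0 : ℕ) : WithBot ℕ∞)) :
    QfAt f (AlgSp.Points.ofPt a φ) :=
  ⟨R, V, a, 𝟙 _, k, φ, ha, AlgSp.repWith_id _ V, by rw [Category.comp_id]; exact w, rfl, h⟩

theorem exists_crit_point (h : IsAlgStack Scheme.fppfPrecoverage 𝒳) (hy : Sm y) (D : Rel y)
    (hqf : LocallyQuasiFinite (pullback.lift D.s.left D.t.left ((Over.w D.s).trans (Over.w D.t).symm) :
      D.R.left ⟶ pullback U.hom U.hom)) (u₀ : ↥U.left) :
    ∃ u : ↥U.left, pt y u = pt y u₀ ∧ ∀ r : ↥D.R.left, D.t.left r = u → D.s.left r = u →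
      ∃ O : D.R.left.Opens, r ∈ O ∧ ∀ w ∈ O, D.t.left w = u → u ⤳ D.s.left w → D.s.left w = u := by
  have hX := h.isStack.1
  have hU : IsFibGrpd (ofSch U).p := Stk.isFibGrpd_ofPsh _
  haveI : Smooth D.t.left := (D.smooth_t h hy).2
  obtain ⟨r₀, hr₀⟩ := D.exists_over h u₀
  have hqf' : LocallyQuasiFinite (pullback.lift D.t.left D.s.left ((Over.w D.t).trans (Over.w D.s).symm) :
      D.R.left ⟶ pullback U.hom U.hom) := by
    have e : pullback.lift D.t.left D.s.left ((Over.w D.t).trans (Over.w D.s).symm) =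
        pullback.lift D.s.left D.t.left ((Over.w D.s).trans (Over.w D.t).symm) ≫
          (pullbackSymmetry U.hom U.hom).hom := by
      apply pullback.hom_ext <;> simp
    rw [e]
    haveI := hqf
    infer_instance
  obtain ⟨u, r₁, Z₀, g₀, hg₀, φ₁', hs₁, ht₁, hφ₁, hrange, hdim⟩ :=
    exists_slice_point D.s.left D.t.left U.hom _ hqf' u₀ r₀ hr₀
  refine ⟨u, by rw [← hs₁, D.pt_eq, ht₁], fun r hrt hrs => ?_⟩
  -- the base change of the relation to the slice
  let Z : Over S := Over.mk (g₀ ≫ U.hom)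
  let g : Z ⟶ U := Over.homMk g₀ rfl
  haveI : IsClosedImmersion g.left := hg₀
  have hZ : IsFibGrpd (ofSch Z).p := Stk.isFibGrpd_ofPsh _
  let f := BasedFunctor.comp (ofSpMap ((AlgSp.yon S).map g)) y
  obtain ⟨F, a', e₁, he₁, ⟨α₁⟩⟩ := exists_space_fp_chart hU hX (rep1_ofSch h y) (spY Z) f
  obtain ⟨g₁, sq, ⟨k⟩⟩ := exists_bc y (V := spY U) y D.e D.he D.b₁ D.γ₁ (ofSpMap ((AlgSp.yon S).map g))
    ((AlgSp.yon S).map g) (Iso.refl _) f (Iso.refl _) e₁ he₁ a' α₁
  let e : ofSp F.obj ⥤ᵇ fp y f := BasedFunctor.comp e₁ (fpSwap f y)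
  have he : IsEquivOver e := isEquivOver_comp he₁ isEquivOver_fpSwap
  have α : BasedFunctor.comp e (fpFst y f) ≅ ofSpMap (g₁ ≫ D.b₂) :=
    (bRight k (fpSnd y y)).symm ≪≫ bLeft (ofSpMap g₁) D.γ₂ ≪≫
      Classical.choice ((nonempty_ofSpMap_comp g₁ D.b₂).map Iso.symm)
  have sqP := (IsPullback.of_hasPullback D.s g).map (AlgSp.yon S)
  let P := pullback D.s g
  let aP : (AlgSp.yon S).obj P ⟶ F.obj := sq.lift ((AlgSp.yon S).map (pullback.fst D.s g) ≫ D.a)
    ((AlgSp.yon S).map (pullback.snd D.s g)) (by rw [Category.assoc, D.hs]; exact sqP.w)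
  have haP₁ : aP ≫ g₁ = (AlgSp.yon S).map (pullback.fst D.s g) ≫ D.a := sq.lift_fst _ _ _
  have haP₂ : aP ≫ a' = (AlgSp.yon S).map (pullback.snd D.s g) := sq.lift_snd _ _ _
  have sqA : IsPullback ((AlgSp.yon S).map (pullback.fst D.s g)) aP D.a g₁ :=
    IsPullback.of_bot (h₁₁ := (AlgSp.yon S).map (pullback.fst D.s g)) (by rw [haP₂, D.hs]; exact sqP) haP₁.symm sq
  have haPe : AlgSp.RepWith @Etale aP :=
    (AlgSp.repWith_isStableUnderBaseChange (@Etale : MorphismProperty Scheme.{u})).of_isPullback sqA D.hae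
  have hw : aP ≫ g₁ ≫ D.b₂ = (AlgSp.yon S).map (pullback.fst D.s g ≫ D.t) := by
    rw [reassoc_of% haP₁, D.ht, ← Functor.map_comp]
  have ha : AlgSp.LocP @LocallyOfFiniteType (g₁ ≫ D.b₂) := by
    have h1 : AlgSp.LocP @LocallyOfFiniteType g₁ := SpFP87.locP_baseChange sq.flip (AlgSp.IsAlgSpace.yon_obj Z)
      (AlgSp.IsAlgSpace.yon_obj U) D.V.property
      ((SpFP87.locP_yon_map_iff (P := @LocallyOfFiniteType) g).2 inferInstance)
    have h2 : AlgSp.LocP @LocallyOfFiniteType D.b₂ := fun U' V' a b j ha hb w => by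
      haveI := (D.smooth_t h hy).1 a b j ha hb w
      infer_instance
    exact SpFP87.locP_comp F.property D.V.property (AlgSp.IsAlgSpace.yon_obj U) h1 h2
  -- the two points of the slice
  have sqL := (IsPullback.of_hasPullback D.s g).map (Over.forget S)
  let j := sqL.isoPullback
  have hj : j.hom ≫ pullback.fst D.s.left g₀ = (pullback.fst D.s g).left := sqL.isoPullback_hom_fst
  let φ₁ : ↥P.left := j.inv φ₁'
  have hjφ : j.hom φ₁ = φ₁' := by
    change (j.inv ≫ j.hom) φ₁' = φ₁'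
    rw [j.inv_hom_id]
    rfl
  have hfφ₁ : (pullback.fst D.s g).left φ₁ = r₁ := by
    rw [← hj, Scheme.Hom.comp_apply]
    exact (congrArg (pullback.fst D.s.left g₀) hjφ).trans hφ₁
  have h₁ : QfAt (g₁ ≫ D.b₂) (AlgSp.Points.ofPt aP φ₁) := by
    refine qfAt_of_diagram haPe hw φ₁ ?_
    have e : (pullback.fst D.s g ≫ D.t).left = j.hom ≫ (pullback.fst D.s.left g₀ ≫ D.t.left) := by
      rw [← Category.assoc, hj]
      rfl
    haveI : LocallyOfFiniteType (pullback.fst D.s.left g₀ ≫ D.t.left) := inferInstance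
    haveI : LocallyOfFiniteType ((pullback.fst D.s g ≫ D.t).left) := e ▸ inferInstance
    rw [← SpPts86.nearPt_lqf_iff]
    obtain ⟨W, hW, hq, hl⟩ := (SpPts86.nearPt_lqf_iff (pullback.fst D.s.left g₀ ≫ D.t.left) φ₁').2 hdim
    refine ⟨j.hom ⁻¹ᵁ W, show j.hom φ₁ ∈ W from hjφ.symm ▸ hW, ?_, inferInstance⟩
    have : (j.hom ⁻¹ᵁ W).ι ≫ (pullback.fst D.s g ≫ D.t).left =
        (j.hom ∣_ W) ≫ W.ι ≫ (pullback.fst D.s.left g₀ ≫ D.t.left) := by
      rw [e, morphismRestrict_ι_assoc]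
    rw [this]
    haveI := hq
    exact MorphismProperty.comp_mem _ _ _ inferInstance hq
  obtain ⟨φ₂, hφ₂, -⟩ := Scheme.Pullback.exists_preimage_pullback (f := D.s.left) (g := g₀) r
    (show u ∈ Set.range g₀ by rw [hrange]; exact subset_closure rfl).choose
    (hrs.trans (show u ∈ Set.range g₀ by rw [hrange]; exact subset_closure rfl).choose_spec.symm)
  let φ : ↥P.left := j.inv φ₂
  have hfφ : (pullback.fst D.s g).left φ = r := by
    rw [← hj, Scheme.Hom.comp_apply]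
    change pullback.fst D.s.left g₀ ((j.inv ≫ j.hom) φ₂) = r
    rw [j.inv_hom_id]
    exact hφ₂
  have hsnd : ∀ ψ : ↥P.left, g₀ ((pullback.snd D.s g).left ψ) = D.s.left ((pullback.fst D.s g).left ψ) :=
    fun ψ => congrArg (fun m : P ⟶ U => m.left ψ) pullback.condition.symm
  have h₂ : QfAt (g₁ ≫ D.b₂) (AlgSp.Points.ofPt aP φ) := by
    refine qfAt_saturated h hZ f (rep1_ofSch h f) y (g₁ ≫ D.b₂) ha e he α _ _ ?_ h₁
    have key : ∀ ψ : ↥P.left, Points.map (BasedFunctor.comp e (fpSnd y f)) (stPt _ (AlgSp.Points.ofPt aP ψ)) =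
        stPt _ (AlgSp.Points.ofScheme Z ((pullback.snd D.s g).left ψ)) := fun ψ => by
      refine (points_map_congr α₁ _).trans ?_
      rw [stPt_natural, AlgSp.Points.map_ofPt, haP₂, SpPts86.ofPt_yon_map]
    rw [key, key]
    congr 2
    exact g₀.isClosedEmbedding.injective (by rw [hsnd, hsnd, hfφ₁, hfφ, hs₁, hrs])
  have hd : FlatMor.fibreDimAt (pullback.fst D.s g ≫ D.t).left φ ≤ ((0 : ℕ) : WithBot ℕ∞) :=
    SpPts86.forall_diagram_of_hasAtMor F.property (AlgSp.IsAlgSpace.yon_obj U)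
      (Q := fun _ _ h u => FlatMor.fibreDimAt h u ≤ ((0 : ℕ) : WithBot ℕ∞))
      (SpPts86.etInv_fibreDim (· ≤ ((0 : ℕ) : WithBot ℕ∞))) h₂ haPe (AlgSp.repWith_id _ U)
      (by rw [Category.comp_id]; exact hw) rfl
  -- the point is isolated over the closure
  haveI : LocallyOfFiniteType (pullback.fst D.s g ≫ D.t).left := by
    haveI : LocallyOfFiniteType (pullback.fst D.s g).left :=
      hj ▸ inferInstanceAs (LocallyOfFiniteType (j.hom ≫ pullback.fst D.s.left g₀))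
    exact inferInstanceAs (LocallyOfFiniteType ((pullback.fst D.s g).left ≫ D.t.left))
  obtain ⟨W, hφW, hWq, -⟩ := (SpPts86.nearPt_lqf_iff (pullback.fst D.s g ≫ D.t).left φ).2 hd
  haveI := hWq
  let q := W.ι ≫ (pullback.fst D.s g ≫ D.t).left
  have hdisc := q.isDiscrete_preimage_singleton u
  have hφq : (⟨φ, hφW⟩ : ↥W) ∈ q ⁻¹' {u} := by
    change D.t.left ((pullback.fst D.s g).left φ) = u
    rw [hfφ, hrt]
  have := hdisc.to_subtype
  obtain ⟨T, hTo, hT⟩ := isOpen_induced_iff.1 (isOpen_discrete ({⟨⟨φ, hφW⟩, hφq⟩} : Set ↥(q ⁻¹' {u})))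
  let pr := (pullback.fst D.s g).left
  have hpr : Topology.IsEmbedding pr := by
    rw [show pr = j.hom ≫ pullback.fst D.s.left g₀ from hj.symm]
    exact (j.hom ≫ pullback.fst D.s.left g₀).isEmbedding
  obtain ⟨T', hT'o, hT'⟩ := hpr.isInducing.isOpen_iff.1 (W.ι.isOpenEmbedding.isOpenMap _ hTo)
  refine ⟨⟨T', hT'o⟩, ?_, fun w hwT ht hs => ?_⟩
  · have hm : (⟨φ, hφW⟩ : ↥W) ∈ T := by
      have : (⟨⟨φ, hφW⟩, hφq⟩ : ↥(q ⁻¹' {u})) ∈ Subtype.val ⁻¹' T := hT.symm ▸ rfl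
      exact this
    change r ∈ T'
    rw [← hfφ]
    exact (Set.ext_iff.1 hT' φ).2 ⟨_, hm, rfl⟩
  · obtain ⟨ζ, hζ⟩ : D.s.left w ∈ Set.range g₀ := by
      rw [hrange]
      exact specializes_iff_mem_closure.1 hs
    obtain ⟨ψ', hψ', -⟩ := Scheme.Pullback.exists_preimage_pullback (f := D.s.left) (g := g₀) w ζ hζ.symm
    let ψ : ↥P.left := j.inv ψ'
    have hfψ : pr ψ = w := by
      change (pullback.fst D.s g).left ψ = w
      rw [← hj, Scheme.Hom.comp_apply]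
      change pullback.fst D.s.left g₀ ((j.inv ≫ j.hom) ψ') = w
      rw [j.inv_hom_id]
      exact hψ'
    obtain ⟨v, hvT, hv⟩ := (Set.ext_iff.1 hT' ψ).1 (show pr ψ ∈ T' from hfψ.symm ▸ hwT)
    have hvq : v ∈ q ⁻¹' {u} := by
      change D.t.left (pr (W.ι v)) = u
      rw [hv, hfψ, ht]
    have := (Set.ext_iff.1 hT ⟨v, hvq⟩).1 hvT
    rw [Set.mem_singleton_iff, Subtype.mk.injEq] at this
    subst this
    rw [← hfψ, ← hv]
    change D.s.left ((pullback.fst D.s g).left φ) = u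
    rw [hfφ, hrs]

theorem resGerbeExists_of_qdm (h : IsAlgStack Scheme.fppfPrecoverage 𝒳) (hq : IsQuasiDMOver 𝒳) (x : Points 𝒳) :
    Gerb.ResGerbeExists Scheme.fppfPrecoverage 𝒳 x := by
  obtain ⟨U, y, u₀, hy, hu₀⟩ := exists_atlas_pt h x
  obtain ⟨D, hD⟩ := exists_rel_lqf hq y
  obtain ⟨u, hu, hcrit⟩ := exists_crit_point h hy D hD u₀
  rw [← hu₀, ← hu]
  exact resGerbeExists_of_crit h hy D u hcrit

end Groth.Agent.ResG44
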